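import Groth.Agent.KunnethCxLib.Tor

/-! Tor against a torsion-free extension of a domain. -/

set_option autoImplicit false
universe u

open CategoryTheory TensorProduct

namespace TFTorLib

variable {R : Type u} [CommRing R] {K : Type u} [Field K] [Algebra R K] [Module.Flat R K]
variable (N : Submodule R K) {X Y : Type u} [AddCommGroup X] [Module R X] [AddCommGroup Y] [Module R Y]

/-- A linear injection out of a flat module stays injective after tensoring with a submodule of a flat field extension. -/
theorem lTensor_injective [Module.Flat R X] (f : X →ₗ[R] Y) (hf : Function.Injective f) :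
    Function.Injective (f.lTensor ↥N) := by
  have h1 : Function.Injective (N.subtype.rTensor X) :=
    Module.Flat.rTensor_preserves_injective_linearMap _ Subtype.val_injective
  have h2 : Function.Injective (f.lTensor K) := Module.Flat.lTensor_preserves_injective_linearMap f hf
  refine (injective_iff_map_eq_zero _).2 fun x hx => ?_
  have e : f.lTensor K (N.subtype.rTensor X x) = N.subtype.rTensor Y (f.lTensor ↥N x) := by
    rw [← LinearMap.comp_apply, ← LinearMap.comp_apply, LinearMap.lTensor_comp_rTensor, LinearMap.rTensor_comp_lTensor]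
  rw [hx, map_zero] at e
  exact h1 ((h2 (e.trans (map_zero _).symm)).trans (map_zero _).symm)

/-- Isomorphism of `Tor₁` along an injection from a free module. -/
theorem nonempty_tor_iso (n : ℕ) (f : (Fin n → R) →ₗ[R] Y) (hf : Function.Injective f) :
    Nonempty (DRing.Tor R 1 ↥N Y ≃ₗ[R] DRing.Tor R 1 ↥N (Y ⧸ LinearMap.range f)) := by
  let π : (Y →₀ R) →ₗ[R] Y := Finsupp.linearCombination R id
  have hπ : Function.Surjective π := Finsupp.linearCombination_id_surjective R Y
  let q : Y →ₗ[R] Y ⧸ LinearMap.range f := (LinearMap.range f).mkQ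
  have hq : Function.Surjective (q.comp π) := (Submodule.mkQ_surjective _).comp hπ
  let A : Submodule R (Y →₀ R) := LinearMap.ker π
  let B : Submodule R (Y →₀ R) := LinearMap.ker (q.comp π)
  obtain ⟨e₁⟩ := KunnethCxLib.nonempty_shift_one_right (X₁ := ↥A) (A.subtype : ↥A →ₗ[R] (Y →₀ R)) π
    Subtype.val_injective hπ (by exact LinearMap.exact_subtype_ker_map π) ↥N
  obtain ⟨e₂⟩ := KunnethCxLib.nonempty_shift_one_right (X₁ := ↥B) (B.subtype : ↥B →ₗ[R] (Y →₀ R)) (q.comp π)
    Subtype.val_injective hq (by exact LinearMap.exact_subtype_ker_map (q.comp π)) ↥N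
  have hAB : A ≤ B := fun x hx => by
    change q (π x) = 0
    rw [LinearMap.mem_ker.1 hx, map_zero]
  let ι : A →ₗ[R] B := Submodule.inclusion hAB
  -- lift the free part
  let b := Pi.basisFun R (Fin n)
  choose s hs using fun i => hπ (f (b i))
  let σ₀ : (Fin n → R) →ₗ[R] (Y →₀ R) := b.constr R s
  have hσ₀ : π.comp σ₀ = f := b.ext fun i => by simp [σ₀, hs]
  let σ : (Fin n → R) →ₗ[R] B := σ₀.codRestrict _ fun v => by
    change q (π (σ₀ v)) = 0
    rw [← LinearMap.comp_apply π σ₀, hσ₀]
    exact (Submodule.Quotient.mk_eq_zero _).2 ⟨v, rfl⟩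
  -- retraction of `B` onto `A`
  let ρ₀ : B →ₗ[R] LinearMap.range f := (π.comp B.subtype).codRestrict _ fun x =>
    (Submodule.Quotient.mk_eq_zero _).1 x.2
  let fe : (Fin n → R) ≃ₗ[R] LinearMap.range f := LinearEquiv.ofInjective f hf
  let p : B →ₗ[R] (Fin n → R) := fe.symm.toLinearMap.comp ρ₀
  have hp : ∀ x : B, f (p x) = π x := fun x => congrArg Subtype.val (fe.apply_symm_apply (ρ₀ x))
  let r : B →ₗ[R] A := (B.subtype - σ₀.comp p).codRestrict _ fun x => by
    change π (x.1 - σ₀ (p x)) = 0
    rw [map_sub, ← LinearMap.comp_apply π σ₀, hσ₀, hp, sub_self]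
  have hrι : r.comp ι = LinearMap.id := LinearMap.ext fun a => Subtype.ext (by
    have h0 : p (ι a) = 0 := hf (by rw [hp, map_zero]; exact a.2)
    show (a.1 : Y →₀ R) - σ₀ (p (ι a)) = a.1
    rw [h0, map_zero, sub_zero])
  have hdec : ι.comp r + σ.comp p = LinearMap.id := LinearMap.ext fun x => Subtype.ext (by
    show (x.1 - σ₀ (p x)) + σ₀ (p x) = x.1
    rw [sub_add_cancel])
  have hinj := lTensor_injective N f hf
  let φ : LinearMap.ker (A.subtype.lTensor ↥N) →ₗ[R] LinearMap.ker (B.subtype.lTensor ↥N) :=
    ((ι.lTensor ↥N).comp (LinearMap.ker (A.subtype.lTensor ↥N)).subtype).codRestrict _ fun x => by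
      rw [LinearMap.mem_ker, LinearMap.comp_apply, ← LinearMap.comp_apply (B.subtype.lTensor ↥N),
        ← LinearMap.lTensor_comp, Submodule.subtype_comp_inclusion]
      exact x.2
  have hφ : Function.Bijective φ := by
    constructor
    · intro x y h
      have h' := congrArg (fun z => r.lTensor ↥N z.1) h
      change r.lTensor ↥N (ι.lTensor ↥N x.1) = r.lTensor ↥N (ι.lTensor ↥N y.1) at h'
      rw [← LinearMap.comp_apply, ← LinearMap.comp_apply (r.lTensor ↥N), ← LinearMap.lTensor_comp, hrι,
        LinearMap.lTensor_id] at h'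
      exact Subtype.ext h'
    · rintro ⟨y, hy⟩
      have hv : p.lTensor ↥N y = 0 := hinj (by
        rw [map_zero, ← LinearMap.comp_apply, ← LinearMap.lTensor_comp,
          show f.comp p = π.comp B.subtype from LinearMap.ext hp, LinearMap.lTensor_comp, LinearMap.comp_apply,
          LinearMap.mem_ker.1 hy, map_zero])
      have hy' : ι.lTensor ↥N (r.lTensor ↥N y) = y := by
        have h := congrArg (fun g => g.lTensor ↥N y) hdec
        simp only [LinearMap.lTensor_add, LinearMap.lTensor_comp, LinearMap.add_apply, LinearMap.comp_apply,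
          LinearMap.lTensor_id, LinearMap.id_apply, hv, map_zero, add_zero] at h
        exact h
      refine ⟨⟨r.lTensor ↥N y, ?_⟩, Subtype.ext hy'⟩
      rw [LinearMap.mem_ker, ← Submodule.subtype_comp_inclusion A B hAB, LinearMap.lTensor_comp,
        LinearMap.comp_apply, hy']
      exact hy
  exact ⟨e₁.trans ((LinearEquiv.ofBijective φ hφ).trans e₂.symm)⟩

/-- For a lattice injection into a free module, the torsion after tensoring is `Tor₁` of the cokernel. -/
theorem nonempty_torsion_iso [IsDomain R] [FaithfulSMul R K] (n : ℕ) (g : Y →ₗ[R] (Fin n → R)) (hg : Function.Injective g)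
    (a : R) (ha : a ≠ 0) (hag : ∀ v, a • v ∈ LinearMap.range g) :
    Nonempty (↥(Submodule.torsion R (↥N ⊗[R] Y)) ≃ₗ[R] DRing.Tor R 1 ↥N ((Fin n → R) ⧸ LinearMap.range g)) := by
  obtain ⟨e⟩ := KunnethCxLib.nonempty_shift_one_right g (LinearMap.range g).mkQ hg (Submodule.mkQ_surjective _)
    (LinearMap.exact_map_mkQ_range g) ↥N
  refine ⟨(LinearEquiv.ofEq _ _ (le_antisymm (fun x hx => ?_) fun x hx => ?_)).trans e.symm⟩
  · obtain ⟨c, hc⟩ := hx
    haveI : NoZeroSMulDivisors R ↥N := ⟨fun {r} {x} h => by
      rcases mul_eq_zero.1 ((Algebra.smul_def r (x : K)).symm.trans (congrArg Subtype.val h)) with h' | h'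
      · exact Or.inl ((FaithfulSMul.algebraMap_eq_zero_iff R K).1 h')
      · exact Or.inr (Subtype.ext h')⟩
    let e' := (TensorProduct.piScalarRight R R ↥N (Fin n))
    have h' := congrArg e' (congrArg (g.lTensor ↥N) hc)
    rw [Submonoid.smul_def, map_smul, map_smul, map_zero, map_zero] at h'
    rw [LinearMap.mem_ker, ← LinearEquiv.map_eq_zero_iff e']
    exact (smul_eq_zero.1 h').resolve_left (nonZeroDivisors.coe_ne_zero c)
  · let fe := LinearEquiv.ofInjective g hg
    let h : (Fin n → R) →ₗ[R] Y :=
      fe.symm.toLinearMap.comp ((a • LinearMap.id).codRestrict (LinearMap.range g) hag)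
    have hh : h.comp g = a • LinearMap.id := LinearMap.ext fun y => hg (by
      refine (congrArg Subtype.val (fe.apply_symm_apply (⟨a • g y, hag (g y)⟩ : LinearMap.range g))).trans ?_
      exact (map_smul g a y).symm)
    refine ⟨⟨a, mem_nonZeroDivisors_of_ne_zero ha⟩, ?_⟩
    have h' := congrArg (fun φ => φ.lTensor ↥N x) hh
    simp only [LinearMap.lTensor_comp, LinearMap.comp_apply, LinearMap.lTensor_smul, LinearMap.lTensor_id,
      LinearMap.smul_apply, LinearMap.id_apply, LinearMap.mem_ker.1 hx, map_zero] at h'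
    exact h'.symm

end TFTorLib
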